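import Cfsg.Agent.BS.Aff
import Cfsg.Agent.BS.List
import Cfsg.Agent.H49.Zs.L2
import Cfsg.Agent.H49.Zs.Sz
import Cfsg.Agent.H49.Zs.U3

/-! Dimension bounds for modules over `F_2` of extensions of the Bender groups. -/

set_option autoImplicit false

namespace Cfsg.Agent.BS

open Subgroup H49

section
variable {K : Type*} [Group K] [Finite K] {V : Type*} [AddCommGroup V] [Module (ZMod 2) V]
  [Module.Finite (ZMod 2) V] (ρ : Representation (ZMod 2) K V)

/-- the complement in the affine group -/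
abbrev Cm : Subgroup (Aff ρ) := (SemidirectProduct.inr : K →* Aff ρ).range

/-- the complement is isomorphic to `K` -/
noncomputable def eCm : K ≃* Cm ρ := MonoidHom.ofInjective SemidirectProduct.inr_injective

theorem eCm_coe (x : K) : (eCm ρ x : Aff ρ) = SemidirectProduct.inr x := rfl

theorem Cm_le : Cm ρ ≤ normalizer (Tr ρ : Set (Aff ρ)) := by
  have := normal_Tr ρ
  rw [Subgroup.normalizer_eq_top]
  exact le_top

theorem Cm_inf (hρ : Function.Injective ρ) : Cm ρ ⊓ centralizer (Tr ρ : Set (Aff ρ)) = ⊥ := by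
  rw [eq_bot_iff]
  rintro _ ⟨⟨g, rfl⟩, hg⟩
  have h1 : g = 1 := by
    apply hρ
    rw [map_one]
    ext v
    have h2 := Subgroup.mem_centralizer_iff.1 hg (SemidirectProduct.inl (Multiplicative.ofAdd v)) ⟨_, rfl⟩
    exact (inr_comm_iff ρ).1 h2
  rw [h1, map_one]
  exact Subgroup.mem_bot.2 rfl

variable {L : Type*} [Group L] (π : K →* L)

/-- the projection of the complement -/
noncomputable def prj : Cm ρ →* L := π.comp (eCm ρ).symm.toMonoidHom

theorem prj_surj (hπ : Function.Surjective π) : Function.Surjective (prj ρ π) :=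
  hπ.comp (eCm ρ).symm.surjective

theorem card_ker_prj (hker : (Nat.card π.ker).Coprime 2) : (Nat.card (prj ρ π).ker).Coprime 2 := by
  have h1 : (prj ρ π).ker = π.ker.map (eCm ρ).toMonoidHom := by
    ext x
    constructor
    · intro hx
      exact ⟨(eCm ρ).symm x, hx, (eCm ρ).apply_symm_apply x⟩
    · rintro ⟨y, hy, rfl⟩
      show π ((eCm ρ).symm ((eCm ρ) y)) = 1
      rw [(eCm ρ).symm_apply_apply]
      exact hy
  have h2 := Subgroup.card_map_of_injective (K := π.ker) (f := (eCm ρ).toMonoidHom) (eCm ρ).injective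
  rw [h1, h2]
  exact hker

/-- bound for `L₂(2ⁿ)` -/
theorem dim_l2 (hρ : Function.Injective ρ) {F : Type*} [Field F] [Fintype F] {n : ℕ} (hn : 2 ≤ n)
    (hF : Fintype.card F = 2 ^ n) (π : K →* Matrix.ProjectiveSpecialLinearGroup (Fin 2) F)
    (hπ : Function.Surjective π) (hker : (Nat.card π.ker).Coprime 2) {s : K} (hs1 : s ≠ 1) {k : ℕ}
    (hsk : s ^ 2 ^ k = 1) :
    n ≤ Module.finrank (ZMod 2) (LinearMap.range (ρ s - 1)) ∧ 2 * n ≤ Module.finrank (ZMod 2) V := by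
  have := Fact.mk Nat.prime_two
  have : CharP F 2 := charP_of_card_eq_prime_pow hF
  have hs1' : (SemidirectProduct.inr s : Aff ρ) ≠ 1 := fun h => hs1 (SemidirectProduct.inr_injective (h.trans (map_one _).symm))
  have h := Zs.l2_bounds (elab_Tr ρ) (Cm_le ρ) (Cm_inf ρ hρ) hn hF (prj ρ π) (prj_surj ρ π hπ)
    (card_ker_prj ρ π hker) (s := SemidirectProduct.inr s) ⟨s, rfl⟩ hs1' (k := k) (by rw [← map_pow, hsk, map_one])
  rw [relIndex_eq, card_Tr, ← pow_mul, mul_comm n 2] at h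
  exact ⟨(Nat.pow_le_pow_iff_right (by norm_num)).1 h.1, (Nat.pow_le_pow_iff_right (by norm_num)).1 h.2⟩

/-- bound for `Sz(q)` -/
theorem dim_sz (hρ : Function.Injective ρ) {F : Type*} [Field F] [Fintype F] {m : ℕ} (hm : 1 ≤ m)
    (hF : Fintype.card F = 2 ^ (2 * m + 1)) (π : K →* Cfsg.Sz F m)
    (hπ : Function.Surjective π) (hker : (Nat.card π.ker).Coprime 2) {s : K} (hs1 : s ≠ 1) {k : ℕ}
    (hsk : s ^ 2 ^ k = 1) :
    (2 * m + 1) * 2 ≤ Module.finrank (ZMod 2) (LinearMap.range (ρ s - 1)) ∧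
      (2 * m + 1) * 4 ≤ Module.finrank (ZMod 2) V := by
  have hs1' : (SemidirectProduct.inr s : Aff ρ) ≠ 1 := fun h => hs1 (SemidirectProduct.inr_injective (h.trans (map_one _).symm))
  have h := Zs.sz_bounds (elab_Tr ρ) (Cm_le ρ) (Cm_inf ρ hρ) hm hF (prj ρ π) (prj_surj ρ π hπ)
    (card_ker_prj ρ π hker) (s := SemidirectProduct.inr s) ⟨s, rfl⟩ hs1' (k := k) (by rw [← map_pow, hsk, map_one])
  rw [relIndex_eq, card_Tr, ← pow_mul, ← pow_mul] at h
  exact ⟨(Nat.pow_le_pow_iff_right (by norm_num)).1 h.1, (Nat.pow_le_pow_iff_right (by norm_num)).1 h.2⟩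

/-- quotient by the odd core -/
theorem quot_core {X : Type*} [Group X] [Finite X] (f : X →* L) (hf : Function.Surjective f)
    (hker : (Nat.card f.ker).Coprime 2) (hL : Cfsg.pPrimeCore 2 L = ⊥) :
    Nonempty (X ⧸ Cfsg.pPrimeCore 2 X ≃* L) := by
  have h1 : Cfsg.pPrimeCore 2 X = f.ker := by
    apply le_antisymm
    · have h2 := Solv.map_pPrimeCore_le 2 f hf
      rw [hL] at h2
      intro x hx
      rw [MonoidHom.mem_ker]
      exact Subgroup.mem_bot.1 (h2 ⟨x, hx, rfl⟩)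
    · exact Solv.le_pPrimeCore inferInstance hker
  exact ⟨(QuotientGroup.quotientMulEquivOfEq h1).trans (QuotientGroup.quotientKerEquivOfSurjective f hf)⟩

/-- bound for `U₃(q)` -/
theorem dim_u3 (hρ : Function.Injective ρ) {F : Type*} [Field F] [Fintype F] {n : ℕ} (hn : 2 ≤ n)
    (hF : Fintype.card F = (2 ^ n) ^ 2) (π : K →* Cfsg.PSU 3 F (2 ^ n))
    (hL : Cfsg.pPrimeCore 2 (Cfsg.PSU 3 F (2 ^ n)) = ⊥)
    (hπ : Function.Surjective π) (hker : (Nat.card π.ker).Coprime 2) (S : Sylow 2 K) {s : K}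
    (hs : s ∈ (S : Subgroup K)) (hs' : ∀ x ∈ (S : Subgroup K), x * s = s * x) (hs1 : s ≠ 1) :
    n * 2 ≤ Module.finrank (ZMod 2) (LinearMap.range (ρ s - 1)) ∧ n * 6 ≤ Module.finrank (ZMod 2) V := by
  have := Fact.mk Nat.prime_two
  have hs1' : (SemidirectProduct.inr s : Aff ρ) ≠ 1 := fun h => hs1 (SemidirectProduct.inr_injective (h.trans (map_one _).symm))
  have hiso := quot_core (prj ρ π) (prj_surj ρ π hπ) (card_ker_prj ρ π hker) hL
  let S' : Sylow 2 (Cm ρ) := S.mapSurjective (eCm ρ).surjective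
  have hmem : ∀ y : Aff ρ, y ∈ (S' : Subgroup (Cm ρ)).map (Cm ρ).subtype ↔ ∃ x ∈ (S : Subgroup K), SemidirectProduct.inr x = y := by
    intro y
    constructor
    · rintro ⟨_, ⟨x, hx, rfl⟩, rfl⟩
      exact ⟨x, hx, rfl⟩
    · rintro ⟨x, hx, rfl⟩
      exact ⟨_, ⟨x, hx, rfl⟩, rfl⟩
  have h := Zs.u3_bounds (elab_Tr ρ) (Cm_le ρ) (Cm_inf ρ hρ) (by omega) (fun _ => hn) hF hiso S' _ rfl
    (s := SemidirectProduct.inr s) ⟨(hmem _).2 ⟨s, hs, rfl⟩, by
      refine Subgroup.mem_centralizer_iff.2 ?_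
      intro y hy
      obtain ⟨x, hx, rfl⟩ := (hmem y).1 hy
      rw [← map_mul, ← map_mul, hs' x hx]⟩ hs1'
  rw [relIndex_eq, card_Tr, ← pow_mul, ← pow_mul] at h
  exact ⟨(Nat.pow_le_pow_iff_right (by norm_num)).1 h.1, (Nat.pow_le_pow_iff_right (by norm_num)).1 h.2⟩

end

end Cfsg.Agent.BS
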