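import Cfsg.Agent.BS.Dim
import Cfsg.Agent.BS.Base
import Cfsg.Agent.H38.PSU3Main
import Cfsg.Agent.BS.TwoT

/-! The dimension bounds in the case `O(G) ≤ H`. -/

set_option autoImplicit false

namespace Cfsg.Agent.BS

open Subgroup H49

section
variable {G : Type*} [Group G] [Finite G] {V : Type*} [AddCommGroup V] [Module (ZMod 2) V]
  [Module.Finite (ZMod 2) V] (ρ : Representation (ZMod 2) G V)

theorem finrank_conj (g s : G) : Module.finrank (ZMod 2) (LinearMap.range (ρ (g * s * g⁻¹) - 1)) =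
    Module.finrank (ZMod 2) (LinearMap.range (ρ s - 1)) := by
  apply Nat.pow_right_injective (le_refl 2)
  show 2 ^ _ = 2 ^ _
  rw [← relIndex_eq, ← relIndex_eq, map_mul, map_mul, map_inv]
  exact Zs.relIndex_cent_conj (Cm_le ρ ⟨g, rfl⟩) _

theorem finrank_pow (s : G) (i : ℕ) : Module.finrank (ZMod 2) (LinearMap.range (ρ (s ^ i) - 1)) ≤
    Module.finrank (ZMod 2) (LinearMap.range (ρ s - 1)) := by
  apply (Nat.pow_le_pow_iff_right (show 1 < 2 by norm_num)).1
  rw [← relIndex_eq, ← relIndex_eq, map_pow]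
  apply Zs.relIndex_cent_le_of_le
  intro x hx
  rw [mem_centralizer_singleton_iff] at hx ⊢
  exact (Commute.pow_right (show Commute x (SemidirectProduct.inr s) from hx) i).eq

theorem factorization_two {a b : ℕ} (hb : Odd b) (ha : a ≠ 0) : (a * b).factorization 2 = a.factorization 2 := by
  have hb0 : b ≠ 0 := by rintro rfl; exact absurd hb (by decide)
  rw [Nat.factorization_mul ha hb0, Finsupp.add_apply, Nat.factorization_eq_zero_of_not_dvd (n := b), add_zero]
  intro h
  exact (Nat.not_even_iff_odd.2 hb) (even_iff_two_dvd.2 h)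

theorem fact_pow_mul {a b : ℕ} (hb : Odd b) : (2 ^ a * b).factorization 2 = a := by
  rw [factorization_two hb (by positivity), Nat.prime_two.factorization_pow]
  simp

theorem odd_pow_sub {q : ℕ} (hq : Even q) (h2 : 2 ≤ q) : Odd (q - 1) :=
  Nat.Even.sub_odd (by omega) hq odd_one

theorem fact_psl2 {F : Type*} [Field F] [Fintype F] {n : ℕ} (hn : 2 ≤ n) (hF : Fintype.card F = 2 ^ n) :
    (Nat.card (Matrix.ProjectiveSpecialLinearGroup (Fin 2) F)).factorization 2 = n := by
  have := Fact.mk Nat.prime_two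
  have : CharP F 2 := charP_of_card_eq_prime_pow hF
  obtain ⟨e⟩ := sl2_equiv_psl2 F
  have he : Even (2 ^ n) := Nat.even_pow.2 ⟨even_two, by omega⟩
  have h4 := four_le_two_pow hn
  rw [← Nat.card_congr e.toEquiv, H81.card_sl2, hF]
  exact fact_pow_mul ((odd_pow_sub he (by omega)).mul he.add_one)

theorem fact_sz {F : Type*} [Field F] [Fintype F] {m : ℕ} (hm : 1 ≤ m) (hF : Fintype.card F = 2 ^ (2 * m + 1)) :
    (Nat.card (Cfsg.Lie.Sz F (2 ^ (m + 1)))).factorization 2 = 2 * (2 * m + 1) := by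
  obtain ⟨h1, -⟩ := S1163.result hm hF
  have he : Even (2 ^ (2 * m + 1)) := Nat.even_pow.2 ⟨even_two, by omega⟩
  have h4 := four_le_two_pow (n := 2 * m + 1) (by omega)
  rw [h1, mul_assoc, ← pow_mul, mul_comm (2 * m + 1) 2]
  exact fact_pow_mul ((odd_pow_sub he (by omega)).mul ((Nat.even_pow.2 ⟨even_two, by omega⟩ : Even (2 ^ (2 * (2 * m + 1)))).add_one))

theorem pPrimeCore_of_simple {L : Type*} [Group L] [Finite L] [IsSimpleGroup L] (he : Even (Nat.card L)) :
    Cfsg.pPrimeCore 2 L = ⊥ := by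
  have := Fact.mk Nat.prime_two
  have hn : (Cfsg.pPrimeCore 2 L).Normal := inferInstance
  rcases hn.eq_bot_or_eq_top with h | h
  · exact h
  · exfalso
    have h1 := Solv.pPrimeCore_card_coprime (G := L) 2
    rw [h, Subgroup.card_top] at h1
    have h2 := Nat.dvd_gcd he.two_dvd (dvd_refl 2)
    rw [h1] at h2
    omega

end

universe u

/-- the dimension bounds for a group mapping onto a Bender group with odd kernel -/
theorem dims {K : Type*} [Group K] [Finite K] {V : Type*} [AddCommGroup V] [Module (ZMod 2) V]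
    [Module.Finite (ZMod 2) V] (ρ : Representation (ZMod 2) K V) (hρ : Function.Injective ρ)
    {L : Type*} [Group L] [Finite L] [IsSimpleGroup L] (he : Even (Nat.card L)) (hL : InList L) (f : K →* L)
    (hf : Function.Surjective f) (hker : (Nat.card f.ker).Coprime 2) (S : Sylow 2 K) {s : K}
    (hs : s ∈ (S : Subgroup K)) (hs' : ∀ x ∈ (S : Subgroup K), x * s = s * x) (hs1 : s ≠ 1) :
    (∀ k, Nat.card S = 2 ^ k → 2 * k ≤ Module.finrank (ZMod 2) V) ∧
    (∀ n, Nat.card ((S : Subgroup K) ⊓ centralizer ((S : Subgroup K) : Set K) : Subgroup K) = 2 ^ n →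
      n ≤ Module.finrank (ZMod 2) (LinearMap.range (ρ s - 1))) := by
  have := Fact.mk Nat.prime_two
  obtain ⟨j, hj⟩ := S.isPGroup' ⟨s, hs⟩
  have hj' : s ^ 2 ^ j = 1 := congrArg Subtype.val hj
  -- the order of `S`
  have hcS : ∀ k, Nat.card S = 2 ^ k → k = (Nat.card L).factorization 2 := by
    intro k hk
    have h1 : Nat.card K = Nat.card L * Nat.card f.ker := by
      rw [← f.ker.card_mul_index, Subgroup.index_ker, MonoidHom.range_eq_top.2 hf, Subgroup.card_top, mul_comm]
    rw [S.card_eq_multiplicity, h1, factorization_two (Nat.coprime_two_right.1 hker) Nat.card_pos.ne'] at hk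
    exact (Nat.pow_right_injective (le_refl 2) hk).symm
  obtain ⟨k₀, hk₀⟩ := IsPGroup.iff_card.mp S.isPGroup'
  have hk₀' := hcS k₀ hk₀
  have hZ : ∀ n, Nat.card ((S : Subgroup K) ⊓ centralizer ((S : Subgroup K) : Set K) : Subgroup K) = 2 ^ n → n ≤ k₀ := by
    intro n hn
    have h1 := Subgroup.card_dvd_of_le (inf_le_left : (S : Subgroup K) ⊓ centralizer ((S : Subgroup K) : Set K) ≤ S)
    rw [hn, hk₀] at h1
    exact (Nat.pow_dvd_pow_iff_le_right (by norm_num)).1 h1
  have hcomp : ∀ {L' : Type _} [Group L'] (e : L ≃* L'), (Nat.card (e.toMonoidHom.comp f).ker).Coprime 2 := by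
    intro L' _ e
    have : (e.toMonoidHom.comp f).ker = f.ker := by
      ext x
      rw [MonoidHom.mem_ker, MonoidHom.mem_ker]
      show e (f x) = 1 ↔ _
      rw [map_eq_one_iff _ e.injective]
    rw [this]
    exact hker
  rcases hL with ⟨F, i1, i2, n, hn, hc, ⟨e⟩⟩ | ⟨F, i1, i2, m, hm, hc, ⟨e⟩⟩ | ⟨F, i1, i2, n, hn, hc, ⟨e⟩⟩
  · have h1 := dim_l2 ρ hρ hn hc (e.toMonoidHom.comp f) (e.surjective.comp hf) (hcomp e) hs1 hj'
    have h2 : k₀ = n := by rw [hk₀', Nat.card_congr e.toEquiv, fact_psl2 hn hc]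
    constructor
    · intro k hk
      rw [hcS k hk, ← hk₀', h2]
      exact h1.2
    · intro n' hn'
      have := hZ n' hn'
      omega
  · obtain ⟨e'⟩ := Suz.nonempty_lieEquiv hm hc
    have h1 := dim_sz ρ hρ hm hc ((e.trans e'.symm).toMonoidHom.comp f) ((e.trans e'.symm).surjective.comp hf)
      (hcomp (e.trans e'.symm)) hs1 hj'
    have h2 : k₀ = 2 * (2 * m + 1) := by rw [hk₀', Nat.card_congr e.toEquiv, fact_sz hm hc]
    constructor
    · intro k hk
      rw [hcS k hk, ← hk₀', h2]
      have := h1.2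
      omega
    · intro n' hn'
      have := hZ n' hn'
      have := h1.1
      omega
  · have hch : CharP F 2 := by
      rw [← pow_mul] at hc
      exact charP_of_card_eq_prime_pow hc
    have hL : Cfsg.pPrimeCore 2 (Cfsg.PSU 3 F (2 ^ n)) = ⊥ := by
      have : IsSimpleGroup (Cfsg.PSU 3 F (2 ^ n)) := e.symm.isSimpleGroup
      apply pPrimeCore_of_simple
      rwa [← Nat.card_congr e.toEquiv]
    have hπ : Function.Surjective (e.toMonoidHom.comp f) := e.surjective.comp hf
    have h1 := dim_u3 ρ hρ hn hc (e.toMonoidHom.comp f) hL hπ (hcomp e) S hs hs' hs1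
    let P := S.mapSurjective hπ
    have hP := H38.PSU3.main hc hn rfl P
    have h2 : k₀ = 3 * n := by
      rw [hk₀', Nat.card_congr e.toEquiv]
      have h3 := hP.1
      rw [P.card_eq_multiplicity, ← pow_mul] at h3
      have := Nat.pow_right_injective (le_refl 2) h3
      rw [this]; ring
    constructor
    · intro k hk
      rw [hcS k hk, ← hk₀', h2]
      have := h1.2
      omega
    · intro n' hn'
      -- the centre of `S` embeds into the centre of `P`
      have hinj : ∀ x ∈ (S : Subgroup K), (e.toMonoidHom.comp f) x = 1 → x = 1 := by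
        intro x hx hx1
        have h3 : orderOf x ∣ Nat.card (e.toMonoidHom.comp f).ker := by
          have h0 := orderOf_dvd_natCard (⟨x, hx1⟩ : (e.toMonoidHom.comp f).ker)
          rwa [← Subgroup.orderOf_coe] at h0
        obtain ⟨i, hi⟩ := S.isPGroup' ⟨x, hx⟩
        have hi' : x ^ 2 ^ i = 1 := congrArg Subtype.val hi
        have h4 := Nat.eq_one_of_dvd_coprimes (Nat.Coprime.pow_right i (hcomp e)) h3 (orderOf_dvd_of_pow_eq_one hi')
        exact orderOf_eq_one_iff.1 h4
      have h3 : Nat.card ((S : Subgroup K) ⊓ centralizer ((S : Subgroup K) : Set K) : Subgroup K) ≤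
          Nat.card (Subgroup.center ↥(P : Subgroup (Cfsg.PSU 3 F (2 ^ n)))) := by
        refine Nat.card_le_card_of_injective (fun x => ⟨⟨(e.toMonoidHom.comp f) x.1, ⟨x.1, x.2.1, rfl⟩⟩, ?_⟩) ?_
        · rw [Subgroup.mem_center_iff]
          rintro ⟨_, ⟨y, hy, rfl⟩⟩
          apply Subtype.ext
          show (e.toMonoidHom.comp f) y * (e.toMonoidHom.comp f) x.1 = (e.toMonoidHom.comp f) x.1 * (e.toMonoidHom.comp f) y
          rw [← map_mul, ← map_mul, Subgroup.mem_centralizer_iff.1 x.2.2 y hy]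
        · intro x y hxy
          have h4 : (e.toMonoidHom.comp f) x.1 = (e.toMonoidHom.comp f) y.1 :=
            congrArg (fun z => ((z : (P : Subgroup (Cfsg.PSU 3 F (2 ^ n)))) : Cfsg.PSU 3 F (2 ^ n))) (congrArg Subtype.val hxy)
          have h5 := hinj _ (mul_mem (inv_mem x.2.1) y.2.1) (by rw [map_mul, map_inv, h4, inv_mul_cancel])
          exact Subtype.ext (inv_mul_eq_one.1 h5)
      rw [hn', hP.2.1] at h3
      have := (Nat.pow_le_pow_iff_right (by norm_num : 1 < 2)).1 h3
      have := h1.1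
      omega

end Cfsg.Agent.BS
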