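import Cfsg.Agent.BS.DimB1

/-! Arithmetic of the orders of `GL_m(2)`, `m ≤ 9`. -/

set_option autoImplicit false

namespace Cfsg.Agent.BS

theorem exp_le {N r v e : ℕ} (h : ¬ r ^ (v + 1) ∣ N) (h2 : r ^ e ∣ N) : e ≤ v := by
  by_contra hlt
  exact h ((pow_dvd_pow r (by omega)).trans h2)

theorem prime_cases {r : ℕ} (hr : r.Prime) (h : r ∣ 3 ^ 5 * 5 ^ 2 * 7 ^ 3 * 17 * 31 * 73 * 127) :
    r = 3 ∨ r = 5 ∨ r = 7 ∨ r = 17 ∨ r = 31 ∨ r = 73 ∨ r = 127 := by
  rcases (hr.dvd_mul).1 h with h | h
  · rcases (hr.dvd_mul).1 h with h | h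
    · rcases (hr.dvd_mul).1 h with h | h
      · rcases (hr.dvd_mul).1 h with h | h
        · rcases (hr.dvd_mul).1 h with h | h
          · rcases (hr.dvd_mul).1 h with h | h
            · exact Or.inl ((Nat.prime_dvd_prime_iff_eq hr (by norm_num)).1 (hr.dvd_of_dvd_pow h))
            · exact Or.inr (Or.inl ((Nat.prime_dvd_prime_iff_eq hr (by norm_num)).1 (hr.dvd_of_dvd_pow h)))
          · exact Or.inr (Or.inr (Or.inl ((Nat.prime_dvd_prime_iff_eq hr (by norm_num)).1 (hr.dvd_of_dvd_pow h))))
        · exact Or.inr (Or.inr (Or.inr (Or.inl ((Nat.prime_dvd_prime_iff_eq hr (by norm_num)).1 h))))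
      · exact Or.inr (Or.inr (Or.inr (Or.inr (Or.inl ((Nat.prime_dvd_prime_iff_eq hr (by norm_num)).1 h)))))
    · exact Or.inr (Or.inr (Or.inr (Or.inr (Or.inr (Or.inl ((Nat.prime_dvd_prime_iff_eq hr (by norm_num)).1 h))))))
  · exact Or.inr (Or.inr (Or.inr (Or.inr (Or.inr (Or.inr ((Nat.prime_dvd_prime_iff_eq hr (by norm_num)).1 h))))))

theorem Nk_nine : Nk 9 = 3 ^ 5 * 5 ^ 2 * 7 ^ 3 * 17 * 31 * 73 * 127 := by decide +kernel

theorem num_fact {k r d c : ℕ} (hk1 : 1 ≤ k) (hk5 : k ≤ 5) (hr : r.Prime) (hd : 1 ≤ d)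
    (h1 : 2 ^ k ∣ r ^ d - 1) (h2 : r ^ (d + c) ∣ Nk (2 * k - 1)) : c = 0 ∧ 3 ≤ k := by
  have hr9 : r ∣ Nk 9 := by
    refine ((dvd_pow_self r (by omega)).trans h2).trans (Nk_dvd (by omega))
  rw [Nk_nine] at hr9
  have hcases := prime_cases hr hr9
  interval_cases k
  · -- k = 1
    have e : Nk (2 * 1 - 1) = 1 := by decide +kernel
    rw [e] at h2
    exfalso
    have h3 : r ∣ 1 := (dvd_pow_self r (by omega : d + c ≠ 0)).trans h2
    exact hr.one_lt.ne' (Nat.dvd_one.1 h3)
  · -- k = 2
    have e : Nk (2 * 2 - 1) = 21 := by decide +kernel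
    rw [e] at h2
    exfalso
    rcases hcases with rfl | rfl | rfl | rfl | rfl | rfl | rfl
    · have := exp_le (v := 1) (by norm_num) h2
      obtain rfl : d = 1 := by omega
      norm_num at h1
    · have := exp_le (v := 0) (by norm_num) h2; omega
    · have := exp_le (v := 1) (by norm_num) h2
      obtain rfl : d = 1 := by omega
      norm_num at h1
    · have := exp_le (v := 0) (by norm_num) h2; omega
    · have := exp_le (v := 0) (by norm_num) h2; omega
    · have := exp_le (v := 0) (by norm_num) h2; omega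
    · have := exp_le (v := 0) (by norm_num) h2; omega
  · -- k = 3
    have e : Nk (2 * 3 - 1) = 9765 := by decide +kernel
    rw [e] at h2
    refine ⟨?_, le_rfl⟩
    rcases hcases with rfl | rfl | rfl | rfl | rfl | rfl | rfl
    · have := exp_le (v := 2) (by norm_num) h2
      have hd2 : d ≤ 2 := by omega
      interval_cases d
      · norm_num at h1
      · omega
    · have := exp_le (v := 1) (by norm_num) h2
      obtain rfl : d = 1 := by omega
      norm_num at h1
    · have := exp_le (v := 1) (by norm_num) h2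
      obtain rfl : d = 1 := by omega
      norm_num at h1
    · have := exp_le (v := 0) (by norm_num) h2; omega
    · have := exp_le (v := 1) (by norm_num) h2
      obtain rfl : d = 1 := by omega
      norm_num at h1
    · have := exp_le (v := 0) (by norm_num) h2; omega
    · have := exp_le (v := 0) (by norm_num) h2; omega
  · -- k = 4
    have e : Nk (2 * 4 - 1) = 78129765 := by decide +kernel
    rw [e] at h2
    refine ⟨?_, by norm_num⟩
    rcases hcases with rfl | rfl | rfl | rfl | rfl | rfl | rfl
    · have := exp_le (v := 4) (by norm_num) h2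
      have hd2 : d ≤ 4 := by omega
      interval_cases d
      · norm_num at h1
      · norm_num at h1
      · norm_num at h1
      · omega
    · have := exp_le (v := 1) (by norm_num) h2
      obtain rfl : d = 1 := by omega
      norm_num at h1
    · have := exp_le (v := 2) (by norm_num) h2
      have hd2 : d ≤ 2 := by omega
      interval_cases d
      · norm_num at h1
      · omega
    · have := exp_le (v := 0) (by norm_num) h2; omega
    · have := exp_le (v := 1) (by norm_num) h2
      obtain rfl : d = 1 := by omega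
      norm_num at h1
    · have := exp_le (v := 0) (by norm_num) h2; omega
    · have := exp_le (v := 1) (by norm_num) h2
      obtain rfl : d = 1 := by omega
      norm_num at h1
  · -- k = 5
    have e : Nk (2 * 5 - 1) = 3 ^ 5 * 5 ^ 2 * 7 ^ 3 * 17 * 31 * 73 * 127 := Nk_nine
    rw [e] at h2
    exfalso
    rcases hcases with rfl | rfl | rfl | rfl | rfl | rfl | rfl
    · have := exp_le (v := 5) (by norm_num) h2
      have hd2 : d ≤ 5 := by omega
      interval_cases d <;> norm_num at h1
    · have := exp_le (v := 2) (by norm_num) h2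
      have hd2 : d ≤ 2 := by omega
      interval_cases d <;> norm_num at h1
    · have := exp_le (v := 3) (by norm_num) h2
      have hd2 : d ≤ 3 := by omega
      interval_cases d <;> norm_num at h1
    · have := exp_le (v := 1) (by norm_num) h2
      obtain rfl : d = 1 := by omega
      norm_num at h1
    · have := exp_le (v := 1) (by norm_num) h2
      obtain rfl : d = 1 := by omega
      norm_num at h1
    · have := exp_le (v := 1) (by norm_num) h2
      obtain rfl : d = 1 := by omega
      norm_num at h1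
    · have := exp_le (v := 1) (by norm_num) h2
      obtain rfl : d = 1 := by omega
      norm_num at h1

/-- bound for `k` -/
theorem k_le_five {k m : ℕ} (hk : 2 ≤ k) (h1 : 2 ^ (k - 2) < m) (h2 : m ≤ 2 * k - 1) : k ≤ 5 := by
  by_contra hlt
  push Not at hlt
  have h3 : ∀ j, 2 * (j + 6) - 1 ≤ 2 ^ (j + 4) := by
    intro j
    induction j with
    | zero => norm_num
    | succ j ih =>
      rw [show j + 1 + 4 = (j + 4) + 1 by ring, pow_succ]
      omega
  obtain ⟨j, rfl⟩ : ∃ j, k = j + 6 := ⟨k - 6, by omega⟩
  have h4 := h3 j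
  have h5 : j + 6 - 2 = j + 4 := by omega
  rw [h5] at h1
  omega

end Cfsg.Agent.BS
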