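import Cfsg.Agent.BS.DimB2
import Cfsg.Agent.BS.DimNum
import Cfsg.Agent.H23.BendRed3

/-! The dimension bound in the rank one case. -/

set_option autoImplicit false

namespace Cfsg.Agent.BS

open Subgroup

universe u
variable {G : Type u} [Group G] [Finite G] {V : Type*} [AddCommGroup V] [Module (ZMod 2) V]
  [Module.Finite (ZMod 2) V] (ρ : Representation (ZMod 2) G V)

theorem t_not_central {H : Subgroup G} (hH : Cfsg.IsStronglyEmbedded H) (hO : ¬ Cfsg.pPrimeCore 2 G ≤ H) {t : G}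
    (ht : orderOf t = 2) : ¬ Cfsg.pPrimeCore 2 G ≤ centralizer ({t} : Set G) := by
  intro hle
  have hc : ∀ g : G, g * t = t * g := by
    intro g
    obtain ⟨n, hn, hng⟩ := H23.Bend.rank_one_frattini (fun a b => H23.Bend.invol_eq_of_commute hH hO) ht g
    have h1 : n * t = t * n := mem_centralizer_singleton_iff.1 (hle hn)
    have h2 : n * (g * t) = n * (t * g) := by
      calc n * (g * t) = n * g * t := by group
        _ = t * (n * g) := hng
        _ = (t * n) * g := by group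
        _ = (n * t) * g := by rw [h1]
        _ = n * (t * g) := by group
    exact mul_left_cancel h2
  obtain ⟨g, hg⟩ : ∃ g, g ∉ H := by
    by_contra h
    push Not at h
    exact hH.1 (Subgroup.eq_top_iff' H |>.2 h)
  obtain ⟨a, ha⟩ := StrEmb.exists_conj_mem hH ht
  have htH : t ∈ H := by
    have : a * t * a⁻¹ = t := by rw [hc a]; group
    rwa [this] at ha
  have h3 : t ∈ H ⊓ H.map (MulAut.conj g).toMonoidHom := by
    refine ⟨htH, t, htH, ?_⟩
    show g * t * g⁻¹ = t
    rw [hc g]; group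
  have h4 : orderOf t ∣ Nat.card (H ⊓ H.map (MulAut.conj g).toMonoidHom : Subgroup G) := by
    have := orderOf_dvd_natCard (⟨t, h3⟩ : (H ⊓ H.map (MulAut.conj g).toMonoidHom : Subgroup G))
    rwa [Subgroup.orderOf_mk] at this
  rw [ht] at h4
  exact (Nat.not_even_iff_odd.2 (hH.2.2 g hg)) (even_iff_two_dvd.2 h4)

/-- an element of order at least half the order of the Sylow 2-subgroup -/
theorem exists_large {k : ℕ} (hk : 2 ≤ k) {S : Subgroup G} (hS : Nat.card S = 2 ^ k)
    (h : IsCyclic S ∨ ∃ m : ℕ, 1 ≤ m ∧ Nonempty (S ≃* QuaternionGroup (2 ^ m))) :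
    ∃ g ∈ S, g ^ 2 ^ (k - 2) ≠ 1 := by
  rcases h with h | ⟨m, hm, ⟨e⟩⟩
  · obtain ⟨⟨g, hg⟩, hgen⟩ := IsCyclic.exists_generator (α := S)
    refine ⟨g, hg, ?_⟩
    intro h1
    have h2 : orderOf (⟨g, hg⟩ : S) = 2 ^ k := by
      rw [← hS]; exact orderOf_eq_card_of_forall_mem_zpowers hgen
    rw [Subgroup.orderOf_mk] at h2
    have h3 := orderOf_dvd_of_pow_eq_one h1
    rw [h2] at h3
    have := (Nat.pow_dvd_pow_iff_le_right (by norm_num)).1 h3
    omega
  · have : NeZero (2 ^ m) := ⟨by positivity⟩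
    have hc : Nat.card S = 4 * 2 ^ m := by
      rw [Nat.card_congr e.toEquiv, Nat.card_eq_fintype_card, QuaternionGroup.card]
    have hkm : k = m + 2 := by
      have h1 : 2 ^ k = 2 ^ (m + 2) := by rw [← hS, hc]; ring
      exact Nat.pow_right_injective (le_refl 2) h1
    refine ⟨e.symm (QuaternionGroup.a 1), (e.symm (QuaternionGroup.a 1)).2, ?_⟩
    intro h1
    have h2 : (e.symm (QuaternionGroup.a 1)) ^ 2 ^ (k - 2) = 1 := Subtype.ext h1
    have h3 : (QuaternionGroup.a 1 : QuaternionGroup (2 ^ m)) ^ 2 ^ (k - 2) = 1 := by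
      have := congrArg e h2
      rwa [map_pow, e.apply_symm_apply, map_one] at this
    have h4 := orderOf_dvd_of_pow_eq_one h3
    rw [QuaternionGroup.orderOf_a_one, hkm, Nat.add_sub_cancel, ← pow_succ'] at h4
    have := (Nat.pow_dvd_pow_iff_le_right (by norm_num)).1 h4
    omega

theorem dim_rankOne {H : Subgroup G} (hH : Cfsg.IsStronglyEmbedded H) (hO : ¬ Cfsg.pPrimeCore 2 G ≤ H)
    (hρ : Function.Injective ρ) (S : Sylow 2 G) {k : ℕ} (hk : Nat.card S = 2 ^ k) :
    2 * k ≤ Module.finrank (ZMod 2) V := by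
  classical
  have := Fact.mk Nat.prime_two
  by_contra hlt
  push Not at hlt
  have hc : ∀ a b : G, orderOf a = 2 → orderOf b = 2 → a * b = b * a → a = b :=
    fun a b => H23.Bend.invol_eq_of_commute hH hO
  have hk1 : 1 ≤ k := by omega
  obtain ⟨t₀, ht₀⟩ := exists_prime_orderOf_dvd_card' (G := S) 2 (by rw [hk]; exact dvd_pow_self 2 (by omega))
  obtain ⟨t, htS⟩ := t₀
  have ht : orderOf t = 2 := by rwa [Subgroup.orderOf_mk] at ht₀
  have huniq : ∀ s ∈ (S : Subgroup G), orderOf s = 2 → s = t := fun s hs h =>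
    H23.Bend.invol_unique hc S.isPGroup' hs htS h ht
  have hpow : ∀ s ∈ (S : Subgroup G), s ≠ 1 → ∃ j : ℕ, s ^ j = t := by
    intro s hs hs1
    obtain ⟨i, hi⟩ := (IsPGroup.iff_orderOf.1 S.isPGroup') ⟨s, hs⟩
    rw [Subgroup.orderOf_mk] at hi
    have hi0 : i ≠ 0 := by
      rintro rfl
      rw [pow_zero, orderOf_eq_one_iff] at hi
      exact hs1 hi
    obtain ⟨j, rfl⟩ : ∃ j, i = j + 1 := ⟨i - 1, by omega⟩
    refine ⟨2 ^ j, huniq _ (pow_mem hs _) ?_⟩
    rw [orderOf_pow_of_dvd (by positivity) (by rw [hi]; exact pow_dvd_pow 2 (by omega)), hi, pow_succ,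
      Nat.mul_div_cancel_left _ (by positivity)]
  have htc : ∀ s ∈ (S : Subgroup G), s * t * s⁻¹ = t := fun s hs =>
    huniq _ (mul_mem (mul_mem hs htS) (inv_mem hs)) (by rw [StrEmb.orderOf_conj, ht])
  set K := Cfsg.pPrimeCore 2 G with hK
  have hKn : K.Normal := inferInstance
  have hKodd : Odd (Nat.card K) := H23.Bend.odd_of_le_pPrimeCore le_rfl
  have hKt := t_not_central hH hO ht
  -- the prime `r`
  obtain ⟨r, hr, hrd⟩ : ∃ r : ℕ, r.Prime ∧ r ∣ ((centralizer ({t} : Set G)).subgroupOf K).index := by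
    apply Nat.exists_prime_and_dvd
    rw [Ne, Subgroup.index_eq_one, Subgroup.subgroupOf_eq_top]
    exact hKt
  have hrf : Fact r.Prime := ⟨hr⟩
  have hcop : (Nat.card (S : Subgroup G)).Coprime (Nat.card K) := by
    rw [hk]
    exact Nat.Coprime.pow_left k (Nat.coprime_two_left.2 hKodd)
  have hSn : (S : Subgroup G) ≤ normalizer (K : Set G) := by
    rw [Subgroup.normalizer_eq_top]; exact le_top
  have hSs : Group.IsSolvable (S : Subgroup G) := by
    have := S.isPGroup'.isNilpotent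
    infer_instance
  obtain ⟨P, hP⟩ := Cop.exists_invariant_sylow hSn hcop (Or.inl hSs) r
  set R : Subgroup G := (P : Subgroup K).map K.subtype with hR
  have hRK : R ≤ K := Subgroup.map_subtype_le _
  have hRodd : Odd (Nat.card R) := hKodd.of_dvd_nat (Subgroup.card_dvd_of_le hRK)
  have hRp : IsPGroup r R := P.isPGroup'.map _
  have hnorm : ∀ s ∈ (S : Subgroup G), ∀ x ∈ R, s * x * s⁻¹ ∈ R := fun s hs x hx =>
    (Subgroup.mem_normalizer_iff.1 (hP hs) x).1 hx
  obtain ⟨x₀, hx₀R, hx₀⟩ : ∃ x ∈ R, x * t * x⁻¹ ≠ t := by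
    by_contra hcon
    push Not at hcon
    have h1 : (P : Subgroup K) ≤ (centralizer ({t} : Set G)).subgroupOf K := by
      intro x hx
      have h2 := hcon x ⟨x, hx, rfl⟩
      show (x : G) ∈ centralizer ({t} : Set G)
      rw [mem_centralizer_singleton_iff]
      exact mul_inv_eq_iff_eq_mul.1 h2
    exact P.not_dvd_index (hrd.trans (Subgroup.index_dvd_of_le h1))
  -- the set of conjugates
  let X := {y : G // ∃ x ∈ R, y = x * t * x⁻¹}
  let _iR : MulAction R X :=
    { smul := fun r y => ⟨r * y.1 * (r : G)⁻¹, by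
        obtain ⟨x, hx, hy⟩ := y.2
        exact ⟨r * x, mul_mem r.2 hx, by rw [hy]; group⟩⟩
      one_smul := fun y => Subtype.ext (by
        show ((1 : R) : G) * y.1 * ((1 : R) : G)⁻¹ = y.1
        rw [Subgroup.coe_one]; group)
      mul_smul := fun a b y => Subtype.ext (by
        show ((a * b : R) : G) * y.1 * ((a * b : R) : G)⁻¹ = (a : G) * ((b : G) * y.1 * (b : G)⁻¹) * (a : G)⁻¹
        rw [Subgroup.coe_mul]; group) }
  have hsmR : ∀ (a : R) (y : X), (a • y).1 = (a : G) * y.1 * (a : G)⁻¹ := fun _ _ => rfl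
  let tX : X := ⟨t, 1, one_mem _, by group⟩
  have htrans : MulAction.IsPretransitive R X := by
    refine ⟨fun y z => ?_⟩
    obtain ⟨y, x, hx, rfl⟩ := y
    obtain ⟨z, w, hw, rfl⟩ := z
    refine ⟨⟨w * x⁻¹, mul_mem hw (inv_mem hx)⟩, Subtype.ext ?_⟩
    rw [hsmR]
    show w * x⁻¹ * (x * t * x⁻¹) * (w * x⁻¹)⁻¹ = w * t * w⁻¹
    group
  have hidx := MulAction.index_stabilizer_of_transitive R tX
  set St := MulAction.stabilizer R tX with hSt
  have hcR := St.card_mul_index
  obtain ⟨e, he⟩ := IsPGroup.iff_card.mp hRp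
  obtain ⟨c, hc'⟩ := IsPGroup.iff_card.mp (hRp.to_subgroup St)
  have hXr : ∃ d, Nat.card X = r ^ d := by
    have h1 : Nat.card X ∣ r ^ e := by
      rw [← he, ← hcR, hidx]; exact dvd_mul_left _ _
    obtain ⟨d, -, hd⟩ := (Nat.dvd_prime_pow hr).1 h1
    exact ⟨d, hd⟩
  obtain ⟨d, hd⟩ := hXr
  have hd1 : 1 ≤ d := by
    by_contra h0
    have h0' : d = 0 := by omega
    rw [h0', pow_zero, Nat.card_eq_one_iff_unique] at hd
    obtain ⟨hsub, -⟩ := hd
    have h1 : (⟨x₀ * t * x₀⁻¹, x₀, hx₀R, rfl⟩ : X) = tX := Subsingleton.elim _ _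
    exact hx₀ (congrArg Subtype.val h1)
  -- `S` acts freely on the other conjugates
  let X' := {y : X // y ≠ tX}
  let _iS : MulAction (S : Subgroup G) X' :=
    { smul := fun s y => ⟨⟨s * y.1.1 * (s : G)⁻¹, by
        obtain ⟨x, hx, hy⟩ := y.1.2
        refine ⟨s * x * (s : G)⁻¹, hnorm s s.2 x hx, ?_⟩
        have h1 := htc s s.2
        rw [hy]
        calc (s : G) * (x * t * x⁻¹) * (s : G)⁻¹ = (s * x * (s : G)⁻¹) * (s * t * (s : G)⁻¹) * (s * x * (s : G)⁻¹)⁻¹ := by group
          _ = _ := by rw [h1]⟩, by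
        intro h
        apply y.2
        apply Subtype.ext
        have h1 : (s : G) * y.1.1 * (s : G)⁻¹ = t := congrArg Subtype.val h
        have h2 := htc s s.2
        have h3 := mul_right_cancel (h1.trans h2.symm)
        exact mul_left_cancel h3⟩
      one_smul := fun y => Subtype.ext (Subtype.ext (by
        show ((1 : (S : Subgroup G)) : G) * y.1.1 * ((1 : (S : Subgroup G)) : G)⁻¹ = y.1.1
        rw [Subgroup.coe_one]; group))
      mul_smul := fun a b y => Subtype.ext (Subtype.ext (by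
        show ((a * b : (S : Subgroup G)) : G) * y.1.1 * ((a * b : (S : Subgroup G)) : G)⁻¹ =
          (a : G) * ((b : G) * y.1.1 * (b : G)⁻¹) * (a : G)⁻¹
        rw [Subgroup.coe_mul]; group)) }
  have hfreeS : ∀ (y : X') (s : (S : Subgroup G)), s • y = y → s = 1 := by
    intro y s hs
    by_contra hs1
    apply y.2
    have hs1' : (s : G) ≠ 1 := fun h => hs1 (Subtype.ext h)
    obtain ⟨j, hj⟩ := hpow s s.2 hs1'
    have h1 : (s : G) * y.1.1 * (s : G)⁻¹ = y.1.1 := congrArg (fun z : X' => z.1.1) hs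
    have h2 : Commute (s : G) y.1.1 := mul_inv_eq_iff_eq_mul.1 h1
    have h3 : Commute t y.1.1 := by
      have h5 := h2.pow_left j
      rwa [hj] at h5
    obtain ⟨x, hx, hy⟩ := y.1.2
    have h4 : orderOf y.1.1 = 2 := by rw [hy, StrEmb.orderOf_conj, ht]
    exact Subtype.ext (hc _ _ h4 ht h3.symm.eq)
  have hdiv := H49.Zs.card_dvd_of_free hfreeS
  have hX' : Nat.card X' = r ^ d - 1 := by
    have h1 : Nat.card X' + 1 = Nat.card X := by
      have : Fintype X := Fintype.ofFinite _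
      rw [Nat.card_eq_fintype_card, Nat.card_eq_fintype_card, Fintype.card_subtype_compl, Fintype.card_subtype_eq]
      have : 0 < Fintype.card X := Fintype.card_pos_iff.2 ⟨tX⟩
      omega
    rw [hd] at h1
    omega
  rw [hk, hX'] at hdiv
  -- orders
  have hRN : r ^ (d + c) ∣ Nk (2 * k - 1) := by
    have h1 := (odd_dvd_Nk ρ hρ hRodd).trans (Nk_dvd (show Module.finrank (ZMod 2) V ≤ 2 * k - 1 by omega))
    rwa [← hcR, hc', hidx, hd, ← pow_add, add_comm] at h1
  have hk5 : k ≤ 5 := by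
    rcases Nat.lt_or_ge k 2 with h | h
    · omega
    · obtain ⟨g, hg, hg1⟩ := exists_large h hk (H23.Bend.sylow_type hc S)
      obtain ⟨l, hl⟩ := S.isPGroup' ⟨g, hg⟩
      have hl' : g ^ 2 ^ l = 1 := congrArg Subtype.val hl
      exact k_le_five h (lt_finrank ρ hρ hg1 hl') (by omega)
  obtain ⟨hc0, hk3⟩ := num_fact hk1 hk5 hr hd1 hdiv hRN
  rw [hc0, pow_zero, Subgroup.card_eq_one] at hc'
  have hCt : ∀ x ∈ R, x * t * x⁻¹ = t → x = 1 := by
    intro x hx hxt
    have h1 : (⟨x, hx⟩ : R) ∈ St := by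
      rw [hSt, MulAction.mem_stabilizer_iff]
      exact Subtype.ext hxt
    rw [hc', Subgroup.mem_bot] at h1
    exact congrArg Subtype.val h1
  have htt := StrEmb.mul_self_eq_one ht
  have hti := StrEmb.inv_eq_self ht
  -- `t` inverts `R`
  let φ : R →* R :=
    { toFun := fun x => ⟨t * x * t⁻¹, hnorm t htS x x.2⟩
      map_one' := Subtype.ext (by
        show t * ((1 : R) : G) * t⁻¹ = ((1 : R) : G)
        rw [Subgroup.coe_one]; group)
      map_mul' := fun a b => Subtype.ext (by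
        show t * ((a * b : R) : G) * t⁻¹ = (t * a * t⁻¹) * (t * b * t⁻¹)
        rw [Subgroup.coe_mul]; group) }
  have hφ : ∀ x : R, (φ x : G) = t * x * t⁻¹ := fun _ => rfl
  have hfpf : MonoidHom.FixedPointFree φ := by
    intro x hx
    have h1 : t * (x : G) * t⁻¹ = x := congrArg Subtype.val hx
    apply Subtype.ext
    apply hCt x x.2
    have h2 : t * (x : G) = x * t := mul_inv_eq_iff_eq_mul.1 h1
    rw [← h2]; group
  have hinv : Function.Involutive φ := by
    intro x
    apply Subtype.ext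
    rw [hφ, hφ, hti]
    calc t * (t * x * t) * t = (t * t) * x * (t * t) := by group
      _ = x := by rw [htt]; group
  have hab : ∀ x ∈ R, ∀ y ∈ R, x * y = y * x := by
    intro x hx y hy
    have := hfpf.commute_all_of_involutive hinv ⟨x, hx⟩ ⟨y, hy⟩
    exact congrArg Subtype.val this
  have hfree : ∀ s ∈ (S : Subgroup G), s ≠ 1 → ∀ x ∈ R, s * x * s⁻¹ = x → x = 1 := by
    intro s hs hs1 x hx hsx
    obtain ⟨j, hj⟩ := hpow s hs hs1
    have h2 : Commute s x := mul_inv_eq_iff_eq_mul.1 hsx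
    have h3 : Commute t x := by rw [← hj]; exact h2.pow_left j
    apply hCt x hx
    rw [← h3.eq]; group
  have hR1 : R ≠ ⊥ := by
    intro h
    rw [h, Subgroup.mem_bot] at hx₀R
    apply hx₀
    rw [hx₀R]; group
  have hfin := card_le_of_frob ρ hρ S.isPGroup' hRodd hR1 hab hnorm hfree
  rw [hk] at hfin
  have h9 : 2 ^ k < 2 * k := by omega
  interval_cases k <;> omega

end Cfsg.Agent.BS
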