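import Cfsg.Agent.BS.Aff
import Cfsg.Agent.Cop.Basic
import Cfsg.Agent.H49.Zs.Basic

/-! Representations over `F_2`: orders of odd subgroups, regular submodules from the trace. -/

set_option autoImplicit false

namespace Cfsg.Agent.BS

open Subgroup

section
variable {G : Type*} [Group G] [Finite G] {V : Type*} [AddCommGroup V] [Module (ZMod 2) V]
  [Module.Finite (ZMod 2) V] (ρ : Representation (ZMod 2) G V)

/-- the product of the `2 ^ j - 1` -/
def Nk (m : ℕ) : ℕ := ∏ j ∈ Finset.range m, (2 ^ (j + 1) - 1)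

theorem Nk_dvd {m m' : ℕ} (h : m ≤ m') : Nk m ∣ Nk m' := by
  unfold Nk
  exact Finset.prod_dvd_prod_of_subset _ _ _ (Finset.range_mono h)

theorem card_GL_two (m : ℕ) : ∃ a, Nat.card (GL (Fin m) (ZMod 2)) = 2 ^ a * Nk m := by
  rw [Matrix.card_GL_field, ZMod.card, Fin.prod_univ_eq_prod_range (fun i => 2 ^ m - 2 ^ i) m]
  have h1 : ∀ i ∈ Finset.range m, 2 ^ m - 2 ^ i = 2 ^ i * (2 ^ (m - i) - 1) := by
    intro i hi
    rw [Finset.mem_range] at hi
    rw [Nat.mul_sub, ← pow_add, Nat.add_sub_cancel' hi.le, mul_one]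
  rw [Finset.prod_congr rfl h1, Finset.prod_mul_distrib, Finset.prod_pow_eq_pow_sum]
  refine ⟨∑ i ∈ Finset.range m, i, ?_⟩
  congr 1
  unfold Nk
  rw [← Finset.prod_range_reflect]
  apply Finset.prod_congr rfl
  intro i hi
  rw [Finset.mem_range] at hi
  congr 2
  omega

theorem odd_dvd_Nk (hρ : Function.Injective ρ) {R : Subgroup G} (hR : Odd (Nat.card R)) :
    Nat.card R ∣ Nk (Module.finrank (ZMod 2) V) := by
  classical
  let b := Module.finBasis (ZMod 2) V
  let f : G →* GL (Fin (Module.finrank (ZMod 2) V)) (ZMod 2) :=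
    (Units.map (LinearMap.toMatrixAlgEquiv b).toMonoidHom).comp (MonoidHom.toHomUnits ρ)
  have hf : Function.Injective f := by
    intro x y hxy
    apply hρ
    have h1 := congrArg Units.val hxy
    exact (LinearMap.toMatrixAlgEquiv b).injective h1
  have h2 : Nat.card R ∣ Nat.card (GL (Fin (Module.finrank (ZMod 2) V)) (ZMod 2)) :=
    (Subgroup.card_subgroup_dvd_card R).trans (Subgroup.card_dvd_of_injective f hf)
  obtain ⟨a, ha⟩ := card_GL_two (Module.finrank (ZMod 2) V)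
  rw [ha] at h2
  exact Nat.Coprime.dvd_of_dvd_mul_left (Nat.Coprime.pow_right a (Nat.coprime_two_right.2 hR)) h2

omit [Finite G] [Module.Finite (ZMod 2) V] in
theorem sub_one_pow (g : G) (j : ℕ) : (ρ g - 1) ^ 2 ^ j = ρ (g ^ 2 ^ j) - 1 := by
  have h2 : (2 : Module.End (ZMod 2) V) = 0 := by
    ext v
    show (2 : Module.End (ZMod 2) V) v = 0
    have h0 : (2 : Module.End (ZMod 2) V) = 1 + 1 := by norm_num
    rw [h0]
    show v + v = 0
    rw [← two_smul (ZMod 2) v]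
    have : (2 : ZMod 2) = 0 := by decide
    rw [this, zero_smul]
  induction j with
  | zero => simp
  | succ j ih =>
    rw [pow_succ, pow_mul, ih, pow_mul, map_pow ρ (g ^ 2 ^ j) 2, sq, sq, mul_sub, sub_mul, sub_mul, one_mul, mul_one, one_mul]
    have h3 : ρ (g ^ 2 ^ j) + ρ (g ^ 2 ^ j) = 0 := by
      rw [← two_mul, h2, zero_mul]
    have h4 : (1 : Module.End (ZMod 2) V) + 1 = 0 := by
      rw [← h2]; norm_num
    have e1 : ρ (g ^ 2 ^ j) * ρ (g ^ 2 ^ j) - ρ (g ^ 2 ^ j) - (ρ (g ^ 2 ^ j) - 1) =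
        ρ (g ^ 2 ^ j) * ρ (g ^ 2 ^ j) - (ρ (g ^ 2 ^ j) + ρ (g ^ 2 ^ j)) + ((1 + 1) - 1) := by abel
    rw [e1, h3, h4, sub_zero, zero_sub, sub_eq_add_neg]

omit [Finite G] in
/-- an element of order `2 ^ (j + 1)` needs dimension greater than `2 ^ j` -/
theorem lt_finrank (hρ : Function.Injective ρ) {g : G} {j : ℕ} (h1 : g ^ 2 ^ j ≠ 1) {l : ℕ} (h2 : g ^ 2 ^ l = 1) :
    2 ^ j < Module.finrank (ZMod 2) V := by
  by_contra hle
  push Not at hle
  apply h1
  apply hρ
  rw [map_one, ← sub_eq_zero, ← sub_one_pow]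
  set N := ρ g - 1 with hN
  have h3 : N ^ 2 ^ l = 0 := by rw [hN, sub_one_pow, h2, map_one, sub_self]
  have h4 : LinearMap.ker (N ^ Module.finrank (ZMod 2) V) = ⊤ := by
    rw [eq_top_iff]
    refine le_trans ?_ (Module.End.ker_pow_le_ker_pow_finrank N (2 ^ l))
    rw [h3, LinearMap.ker_zero]
  have h5 : N ^ Module.finrank (ZMod 2) V = 0 := LinearMap.ker_eq_top.1 h4
  obtain ⟨c, hc⟩ := Nat.exists_eq_add_of_le hle
  rw [hc, pow_add, h5, zero_mul]

end

end Cfsg.Agent.BS
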