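import Cfsg.Agent.BS.DimB1

/-! Representations over `F_2`: regular submodules from the trace. -/

set_option autoImplicit false

namespace Cfsg.Agent.BS

open Subgroup

theorem zmod2_eq_one (x : ZMod 2) (h : x ≠ 0) : x = 1 := by
  revert x
  decide

theorem end_add_self {V : Type*} [AddCommGroup V] [Module (ZMod 2) V] (f : Module.End (ZMod 2) V) : f + f = 0 := by
  ext v
  show f v + f v = 0
  rw [← two_smul (ZMod 2) (f v)]
  have : (2 : ZMod 2) = 0 := by decide
  rw [this, zero_smul]

theorem natCast_end_of_odd {V : Type*} [AddCommGroup V] [Module (ZMod 2) V] {n : ℕ} (hn : Odd n) :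
    (n : Module.End (ZMod 2) V) = 1 := by
  obtain ⟨k, rfl⟩ := hn
  have h1 : ((2 * k + 1 : ℕ) : Module.End (ZMod 2) V) = (k : Module.End (ZMod 2) V) + k + 1 := by
    push_cast
    rw [two_mul]
  rw [h1, end_add_self, zero_add]

section
variable {S : Type*} [Group S] [Finite S] {V : Type*} [AddCommGroup V] [Module (ZMod 2) V]
  [Module.Finite (ZMod 2) V] (ρ : Representation (ZMod 2) S V)

/-- if the trace of the 2-group `S` does not vanish on `V`, then `dim V ≥ |S|` -/
theorem card_le_of_trace [Fintype S] (hS : IsPGroup 2 S) {v : V} (hv : ∑ s : S, ρ s v ≠ 0) :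
    Nat.card S ≤ Module.finrank (ZMod 2) V := by
  classical
  have := Fact.mk Nat.prime_two
  let Φ : (S → ZMod 2) →ₗ[ZMod 2] V :=
    { toFun := fun c => ∑ s, c s • ρ s v
      map_add' := fun c d => by
        simp [add_smul, Finset.sum_add_distrib]
      map_smul' := fun a c => by
        simp [Finset.smul_sum, mul_smul] }
  have hinj : Function.Injective Φ := by
    rw [← LinearMap.ker_eq_bot]
    by_contra hne
    -- `S` acts on the kernel
    have hΦ : ∀ (a : S) (c : S → ZMod 2), Φ (fun s => c (a⁻¹ * s)) = ρ a (Φ c) := by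
      intro a c
      show ∑ s, c (a⁻¹ * s) • ρ s v = ρ a (∑ s, c s • ρ s v)
      rw [map_sum, ← Equiv.sum_comp (Equiv.mulLeft a)]
      apply Finset.sum_congr rfl
      intro s _
      simp only [Equiv.coe_mulLeft]
      rw [inv_mul_cancel_left, map_smul, map_mul]
      rfl
    let _i : MulAction S (LinearMap.ker Φ) :=
      { smul := fun a c => ⟨fun s => c.1 (a⁻¹ * s), by
          rw [LinearMap.mem_ker, hΦ, LinearMap.mem_ker.1 c.2, map_zero]⟩
        one_smul := fun c => by
          apply Subtype.ext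
          funext s
          show c.1 (1⁻¹ * s) = c.1 s
          rw [inv_one, one_mul]
        mul_smul := fun a b c => by
          apply Subtype.ext
          funext s
          show c.1 ((a * b)⁻¹ * s) = c.1 (b⁻¹ * (a⁻¹ * s))
          rw [mul_inv_rev, mul_assoc] }
    have hsm : ∀ (a : S) (c : LinearMap.ker Φ) (s : S), (a • c).1 s = c.1 (a⁻¹ * s) := fun _ _ _ => rfl
    have hfin : Finite (LinearMap.ker Φ) := inferInstance
    have hcard : 2 ∣ Nat.card (LinearMap.ker Φ) := by
      have : Fintype (LinearMap.ker Φ) := Fintype.ofFinite _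
      rw [Nat.card_eq_fintype_card, Module.card_eq_pow_finrank (K := ZMod 2), ZMod.card]
      apply dvd_pow_self
      intro h0
      exact hne (Submodule.finrank_eq_zero.1 h0)
    have h0 : (0 : LinearMap.ker Φ) ∈ MulAction.fixedPoints S (LinearMap.ker Φ) := by
      intro a
      apply Subtype.ext
      funext s
      rw [hsm]
      rfl
    obtain ⟨c, hc, hc0⟩ := hS.exists_fixed_point_of_prime_dvd_card_of_fixed_point (LinearMap.ker Φ) hcard h0
    -- `c` is constant
    have hconst : ∀ s, c.1 s = c.1 1 := by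
      intro s
      have h1 := congrArg (fun d : LinearMap.ker Φ => d.1 s) (hc s)
      simp only [hsm] at h1
      rw [inv_mul_cancel] at h1
      exact h1.symm
    have hc1 : c.1 1 = 1 := by
      have h2 : c.1 1 ≠ 0 := by
        intro h3
        apply hc0
        symm
        apply Subtype.ext
        funext s
        rw [hconst s, h3]
        rfl
      exact zmod2_eq_one _ h2
    have h3 : Φ c.1 = 0 := c.2
    apply hv
    have h4 : Φ c.1 = ∑ s, ρ s v := by
      show ∑ s, c.1 s • ρ s v = _
      apply Finset.sum_congr rfl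
      intro s _
      rw [hconst s, hc1, one_smul]
    rw [← h4, h3]
  have h1 := LinearMap.finrank_le_finrank_of_injective hinj
  rwa [Module.finrank_fintype_fun_eq_card, ← Nat.card_eq_fintype_card] at h1

end

section
variable {G : Type*} [Group G] [Finite G] {V : Type*} [AddCommGroup V] [Module (ZMod 2) V]
  [Module.Finite (ZMod 2) V] (ρ : Representation (ZMod 2) G V)

/-- a 2-group acting without fixed points on an abelian group of odd order -/
theorem card_le_of_frob (hρ : Function.Injective ρ) {S R : Subgroup G} (hS : IsPGroup 2 S)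
    (hR : Odd (Nat.card R)) (hR1 : R ≠ ⊥) (hab : ∀ x ∈ R, ∀ y ∈ R, x * y = y * x)
    (hnorm : ∀ s ∈ S, ∀ x ∈ R, s * x * s⁻¹ ∈ R)
    (hfree : ∀ s ∈ S, s ≠ 1 → ∀ x ∈ R, s * x * s⁻¹ = x → x = 1) :
    Nat.card S ≤ Module.finrank (ZMod 2) V := by
  classical
  have : Fintype S := Fintype.ofFinite _
  have : Fintype R := Fintype.ofFinite _
  have h2 : ∀ f : Module.End (ZMod 2) V, f + f = 0 := end_add_self
  have hcardR : (Nat.card R : Module.End (ZMod 2) V) = 1 := natCast_end_of_odd hR
  set σ : Module.End (ZMod 2) V := ∑ s : S, ρ s with hσ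
  by_cases h0 : σ = 0
  · exfalso
    set e : Module.End (ZMod 2) V := ∑ x : R, ρ x with he
    -- the key identity
    have key : ∀ s : S, s ≠ 1 → ∑ x : R, ρ ((x : G) * s * (x : G)⁻¹) = e * ρ s := by
      intro s hs
      let φ : R → R := fun x => x * ⟨(s : G) * (x : G)⁻¹ * (s : G)⁻¹, hnorm s s.2 _ (inv_mem x.2)⟩
      have hφ : Function.Injective φ := by
        intro x y hxy
        have h3 : (x : G) * ((s : G) * (x : G)⁻¹ * (s : G)⁻¹) = (y : G) * ((s : G) * (y : G)⁻¹ * (s : G)⁻¹) :=
          congrArg Subtype.val hxy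
        have h4 : (y : G)⁻¹ * x = 1 := by
          apply hfree s s.2 (fun h => hs (Subtype.ext h)) _ (mul_mem (inv_mem y.2) x.2)
          -- s (y⁻¹ x) s⁻¹ = y⁻¹ x
          have h5 : (s : G) * ((y : G)⁻¹ * x) * (s : G)⁻¹ = ((s : G) * (y : G)⁻¹ * (s : G)⁻¹) * ((s : G) * (x : G)⁻¹ * (s : G)⁻¹)⁻¹ := by
            group
          rw [h5]
          have h6 : (y : G) * ((s : G) * (y : G)⁻¹ * (s : G)⁻¹) * ((s : G) * (x : G)⁻¹ * (s : G)⁻¹)⁻¹ = x := by
            rw [← h3]; group
          have h7 : (y : G) * (((s : G) * (y : G)⁻¹ * (s : G)⁻¹) * ((s : G) * (x : G)⁻¹ * (s : G)⁻¹)⁻¹) = x := by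
            rw [← mul_assoc]; exact h6
          exact eq_inv_mul_of_mul_eq h7
        exact Subtype.ext (inv_mul_eq_one.1 h4).symm
      have hφ' : Function.Bijective φ := Finite.injective_iff_bijective.1 hφ
      have h3 : ∀ x : R, ρ ((x : G) * s * (x : G)⁻¹) = ρ (φ x) * ρ s := by
        intro x
        rw [← map_mul]
        congr 1
        show (x : G) * s * (x : G)⁻¹ = (x : G) * ((s : G) * (x : G)⁻¹ * (s : G)⁻¹) * s
        group
      rw [Finset.sum_congr rfl (fun x _ => h3 x), ← Finset.sum_mul, he]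
      congr 1
      exact Function.Bijective.sum_comp hφ' (fun x : R => ρ (x : G))
    have hsum : ∑ x : R, ρ (x : G) * σ * ρ (x : G)⁻¹ = 1 + e * (σ + 1) := by
      have h3 : ∀ x : R, ρ (x : G) * σ * ρ (x : G)⁻¹ = ∑ s : S, ρ ((x : G) * s * (x : G)⁻¹) := by
        intro x
        rw [hσ, Finset.mul_sum, Finset.sum_mul]
        apply Finset.sum_congr rfl
        intro s _
        rw [← map_mul, ← map_mul]
      rw [Finset.sum_congr rfl (fun x _ => h3 x), Finset.sum_comm, ← Finset.add_sum_erase _ _ (Finset.mem_univ (1 : S))]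
      have h4 : ∑ x : R, ρ ((x : G) * ((1 : S) : G) * (x : G)⁻¹) = 1 := by
        have h5 : ∀ x : R, ρ ((x : G) * ((1 : S) : G) * (x : G)⁻¹) = 1 := by
          intro x
          rw [Subgroup.coe_one, mul_one, mul_inv_cancel, map_one]
        rw [Finset.sum_congr rfl (fun x _ => h5 x), Finset.sum_const, Finset.card_univ, ← Nat.card_eq_fintype_card,
          nsmul_eq_mul, hcardR, mul_one]
      rw [h4, Finset.sum_congr rfl (fun s hs => key s (Finset.ne_of_mem_erase hs)), ← Finset.mul_sum]
      congr 2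
      have h5 : σ = ρ ((1 : S) : G) + ∑ s ∈ Finset.univ.erase (1 : S), ρ (s : G) := by
        rw [hσ, ← Finset.add_sum_erase _ _ (Finset.mem_univ (1 : S))]
      rw [h5, Subgroup.coe_one, map_one, add_comm (1 : Module.End (ZMod 2) V), add_assoc, h2, add_zero]
    rw [h0] at hsum
    simp only [mul_zero, zero_mul, Finset.sum_const_zero, zero_add, mul_one] at hsum
    have he1 : e = 1 := by
      have h3 : 1 + e + e = e := by rw [← hsum, zero_add]
      rw [add_assoc, h2, add_zero] at h3
      exact h3.symm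
    apply hR1
    rw [eq_bot_iff]
    intro y hy
    rw [Subgroup.mem_bot]
    apply hρ
    rw [map_one]
    have h4 : ρ y * e = e := by
      rw [he, Finset.mul_sum]
      have h5 : ∀ x : R, ρ y * ρ (x : G) = ρ (((⟨y, hy⟩ * x : R) : R) : G) := by
        intro x
        rw [← map_mul]
        rfl
      rw [Finset.sum_congr rfl (fun x _ => h5 x)]
      exact (Equiv.sum_comp (Equiv.mulLeft (⟨y, hy⟩ : R)) (fun x : R => ρ (x : G)))
    rw [he1, mul_one] at h4
    exact h4
  · obtain ⟨v, hv⟩ : ∃ v, σ v ≠ 0 := by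
      by_contra hcon
      push Not at hcon
      exact h0 (LinearMap.ext hcon)
    apply card_le_of_trace (ρ.comp S.subtype) hS (v := v)
    rw [hσ] at hv
    simpa using hv

end

end Cfsg.Agent.BS
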