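import Cfsg.Agent.BS.DimA
import Cfsg.Agent.BS.DimB
import Cfsg.Agent.BS.Conseq

/-! Dimensions of faithful `F_2`-modules for groups with a strongly embedded subgroup. -/

set_option autoImplicit false

namespace Cfsg.Agent.BS

open Subgroup H49

universe u
variable {G : Type u} [Group G] [Finite G] {V : Type*} [AddCommGroup V] [Module (ZMod 2) V]
  [Module.Finite (ZMod 2) V] (ρ : Representation (ZMod 2) G V)

theorem caseA {H : Subgroup G} (hH : Cfsg.IsStronglyEmbedded H) (hO : Cfsg.pPrimeCore 2 G ≤ H)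
    (hρ : Function.Injective ρ) (S : Sylow 2 G) {s : G}
    (hs : s ∈ (S : Subgroup G)) (hs' : ∀ x ∈ (S : Subgroup G), x * s = s * x) (hs1 : s ≠ 1) :
    (∀ k, Nat.card S = 2 ^ k → 2 * k ≤ Module.finrank (ZMod 2) V) ∧
    (∀ n, Nat.card ((S : Subgroup G) ⊓ centralizer ((S : Subgroup G) : Set G) : Subgroup G) = 2 ^ n →
      n ≤ Module.finrank (ZMod 2) (LinearMap.range (ρ s - 1))) := by
  have := Fact.mk Nat.prime_two
  obtain ⟨L, hL, hLs, hna, -, hodd, hlist, hE, -⟩ := struct hH hO
  set q := QuotientGroup.mk' (Cfsg.pPrimeCore 2 G) with hq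
  have hqs : Function.Surjective q := QuotientGroup.mk'_surjective _
  let K : Subgroup G := L.comap q
  have hKn : K.Normal := inferInstance
  have hKi : Odd K.index := by
    show Odd (L.comap q).index
    rw [Subgroup.index_comap_of_surjective L hqs]
    exact hodd
  have hSK : (S : Subgroup G) ≤ K := by
    intro x hx
    obtain ⟨i, hi⟩ := S.isPGroup' ⟨x, hx⟩
    have hi' : x ^ 2 ^ i = 1 := congrArg Subtype.val hi
    have h1 : orderOf (QuotientGroup.mk' K x) ∣ 2 ^ i := orderOf_dvd_of_pow_eq_one (by rw [← map_pow, hi', map_one])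
    have h2 : orderOf (QuotientGroup.mk' K x) ∣ K.index := orderOf_dvd_natCard _
    have h3 := Nat.eq_one_of_dvd_coprimes (Nat.Coprime.pow_left i (Nat.coprime_two_left.2 hKi)) h1 h2
    rw [orderOf_eq_one_iff] at h3
    exact (QuotientGroup.eq_one_iff x).1 h3
  let f : K →* L := q.subgroupComap L
  have hf : Function.Surjective f := MonoidHom.subgroupComap_surjective_of_surjective q L hqs
  have hker : (Nat.card f.ker).Coprime 2 := by
    have h1 : f.ker.map K.subtype ≤ Cfsg.pPrimeCore 2 G := by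
      rintro _ ⟨x, hx, rfl⟩
      have h2 : q (x : G) = 1 := congrArg Subtype.val (MonoidHom.mem_ker.1 hx)
      exact (QuotientGroup.eq_one_iff _).1 h2
    have h2 := Subgroup.card_dvd_of_le h1
    rw [Subgroup.card_map_of_injective K.subtype_injective] at h2
    exact (Solv.pPrimeCore_card_coprime (G := G) 2).coprime_dvd_left h2
  let ρK : Representation (ZMod 2) K V := ρ.comp K.subtype
  have hρK : Function.Injective ρK := hρ.comp K.subtype_injective
  let SK : Sylow 2 K := S.subtype hSK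
  have hmem : ∀ x : K, x ∈ (SK : Subgroup K) ↔ (x : G) ∈ (S : Subgroup G) := fun x => Iff.rfl
  have hcS : Nat.card SK = Nat.card S := Nat.card_congr (Subgroup.subgroupOfEquivOfLe hSK).toEquiv
  have hcZ : Nat.card ((SK : Subgroup K) ⊓ centralizer ((SK : Subgroup K) : Set K) : Subgroup K) =
      Nat.card ((S : Subgroup G) ⊓ centralizer ((S : Subgroup G) : Set G) : Subgroup G) := by
    have h1 : ((SK : Subgroup K) ⊓ centralizer ((SK : Subgroup K) : Set K)).map K.subtype =
        (S : Subgroup G) ⊓ centralizer ((S : Subgroup G) : Set G) := by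
      ext x
      constructor
      · rintro ⟨y, ⟨hy1, hy2⟩, rfl⟩
        refine ⟨(hmem y).1 hy1, Subgroup.mem_centralizer_iff.2 ?_⟩
        intro z hz
        exact congrArg Subtype.val (Subgroup.mem_centralizer_iff.1 hy2 ⟨z, hSK hz⟩ hz)
      · rintro ⟨hx1, hx2⟩
        refine ⟨⟨x, hSK hx1⟩, ⟨hx1, Subgroup.mem_centralizer_iff.2 ?_⟩, rfl⟩
        intro z hz
        exact Subtype.ext (Subgroup.mem_centralizer_iff.1 hx2 z hz)
    rw [← h1, Subgroup.card_map_of_injective K.subtype_injective]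
  have he : Even (Nat.card L) := hE.2.1.trans_dvd (Subgroup.card_subgroup_dvd_card _)
  have h := dims ρK hρK he hlist f hf hker SK (s := ⟨s, hSK hs⟩) hs
    (fun x hx => Subtype.ext (hs' x hx)) (fun h => hs1 (congrArg Subtype.val h))
  rw [hcS, hcZ] at h
  exact h

theorem caseA_general {H : Subgroup G} (hH : Cfsg.IsStronglyEmbedded H) (hO : Cfsg.pPrimeCore 2 G ≤ H)
    (hρ : Function.Injective ρ) (S : Sylow 2 G) :
    (∀ k, Nat.card S = 2 ^ k → 2 * k ≤ Module.finrank (ZMod 2) V) ∧
    (∀ n, Nat.card ((S : Subgroup G) ⊓ centralizer ((S : Subgroup G) : Set G) : Subgroup G) = 2 ^ n →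
      ∀ s ∈ (S : Subgroup G), s ≠ 1 → n ≤ Module.finrank (ZMod 2) (LinearMap.range (ρ s - 1))) := by
  have := Fact.mk Nat.prime_two
  have hdvd : 2 ∣ Nat.card G := hH.2.1.two_dvd.trans (Subgroup.card_subgroup_dvd_card H)
  have hne := S.ne_bot_of_dvd_card hdvd
  -- a central involution
  have hnt : Nontrivial (S : Subgroup G) := (Subgroup.nontrivial_iff_ne_bot _).2 hne
  have hz : Nontrivial (Subgroup.center (S : Subgroup G)) := S.isPGroup'.center_nontrivial
  have hz2 : 2 ∣ Nat.card (Subgroup.center (S : Subgroup G)) := by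
    obtain ⟨k, hk⟩ := IsPGroup.iff_card.mp (S.isPGroup'.to_subgroup (Subgroup.center (S : Subgroup G)))
    rw [hk]
    apply dvd_pow_self
    rintro rfl
    rw [pow_zero, Nat.card_eq_one_iff_unique] at hk
    exact not_subsingleton _ hk.1
  obtain ⟨z, hz⟩ := exists_prime_orderOf_dvd_card' 2 hz2
  have hzo : orderOf ((z : (S : Subgroup G)) : G) = 2 := by rw [Subgroup.orderOf_coe, Subgroup.orderOf_coe, hz]
  have hzc : ∀ x ∈ (S : Subgroup G), x * ((z : (S : Subgroup G)) : G) = ((z : (S : Subgroup G)) : G) * x := by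
    intro x hx
    exact congrArg Subtype.val ((Subgroup.mem_center_iff.1 z.2) ⟨x, hx⟩)
  have h := caseA ρ hH hO hρ S (z : (S : Subgroup G)).2 hzc (StrEmb.ne_one hzo)
  refine ⟨h.1, ?_⟩
  intro n hn s hs hs1
  -- an involution in `⟨s⟩`
  obtain ⟨i, hi⟩ := (IsPGroup.iff_orderOf.1 S.isPGroup') ⟨s, hs⟩
  rw [Subgroup.orderOf_mk] at hi
  have hi0 : i ≠ 0 := by
    rintro rfl
    rw [pow_zero, orderOf_eq_one_iff] at hi
    exact hs1 hi
  obtain ⟨j, rfl⟩ : ∃ j, i = j + 1 := ⟨i - 1, by omega⟩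
  have hso : orderOf (s ^ 2 ^ j) = 2 := by
    rw [orderOf_pow_of_dvd (by positivity) (by rw [hi]; exact pow_dvd_pow 2 (by omega)), hi, pow_succ,
      Nat.mul_div_cancel_left _ (by positivity)]
  obtain ⟨g, hg⟩ := isConj_iff.1 (StrEmb.isConj hH hso hzo)
  have h1 := h.2 n hn
  rw [← hg, finrank_conj] at h1
  exact h1.trans (finrank_pow ρ s _)

theorem caseB_two {H : Subgroup G} (hH : Cfsg.IsStronglyEmbedded H) (hO : ¬ Cfsg.pPrimeCore 2 G ≤ H)
    (hρ : Function.Injective ρ) (S : Sylow 2 G)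
    (hZ : ∀ z ∈ (S : Subgroup G) ⊓ centralizer ((S : Subgroup G) : Set G), z ^ 2 = 1) {n : ℕ}
    (hn : Nat.card ((S : Subgroup G) ⊓ centralizer ((S : Subgroup G) : Set G) : Subgroup G) = 2 ^ n) {s : G}
    (hs1 : s ≠ 1) : n ≤ Module.finrank (ZMod 2) (LinearMap.range (ρ s - 1)) := by
  have := Fact.mk Nat.prime_two
  have hc : ∀ a b : G, orderOf a = 2 → orderOf b = 2 → a * b = b * a → a = b :=
    fun a b => H23.Bend.invol_eq_of_commute hH hO
  set Z := (S : Subgroup G) ⊓ centralizer ((S : Subgroup G) : Set G) with hZdef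
  have huniq : ∀ a ∈ Z, ∀ b ∈ Z, a ≠ 1 → b ≠ 1 → a = b := by
    intro a ha b hb ha1 hb1
    exact H23.Bend.invol_unique hc S.isPGroup' ha.1 hb.1 (orderOf_eq_prime (hZ a ha) ha1)
      (orderOf_eq_prime (hZ b hb) hb1)
  have hle : Nat.card Z ≤ 2 := by
    by_cases h : ∃ a ∈ Z, a ≠ 1
    · obtain ⟨a, ha, ha1⟩ := h
      have hs : (Z : Set G) ⊆ ({1, a} : Set G) := by
        intro x hx
        by_cases hx1 : x = 1
        · simp [hx1]
        · simp [huniq x hx a ha hx1 ha1]
      have h2 := Set.ncard_le_ncard hs (Set.toFinite _)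
      rw [← Nat.card_coe_set_eq] at h2
      refine le_trans h2 ?_
      exact le_trans (Set.ncard_insert_le _ _) (by simp)
    · push Not at h
      have : Z = ⊥ := by
        rw [eq_bot_iff]
        intro x hx
        exact h x hx
      rw [this]
      simp
  have hn1 : n ≤ 1 := by
    rw [hn] at hle
    by_contra hlt
    have : 2 ^ 2 ≤ 2 ^ n := Nat.pow_le_pow_right (by norm_num) (by omega)
    omega
  have h1 : 1 ≤ Module.finrank (ZMod 2) (LinearMap.range (ρ s - 1)) := by
    rw [Nat.one_le_iff_ne_zero]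
    intro h0
    rw [Submodule.finrank_eq_zero, LinearMap.range_eq_bot, sub_eq_zero] at h0
    apply hs1
    apply hρ
    rw [h0, map_one]
  omega

end Cfsg.Agent.BS
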